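import Groth.Agent.L21.RR.Twist
import Groth.Agent.L17.PullBasis

/-!
Coherent modules supported in dimension zero: generation, and tensor with locally free modules.
-/

set_option autoImplicit false
set_option backward.isDefEq.respectTransparency false
set_option linter.style.haveILetI false
universe u

open CategoryTheory CategoryTheory.Limits AlgebraicGeometry TopologicalSpace Opposite

noncomputable section

namespace Groth.L22.CurveDeg

open Groth.L16.CohLinear (hmap hmap_comp hmap_id overLin)
open Groth.L21.RR (st one oneSec h SuppClosed e0)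

variable {X : Scheme.{u}}

theorem suppClosed_of_dim {F : X.Modules} (hF : Coh.IsCoh F)
    (hsupp : topologicalKrullDim (CohB1.support F) ≤ 0) : SuppClosed F := by
  intro x hx
  by_contra hxS
  have hxS' : x ∈ CohB1.support F := hxS
  obtain ⟨z, hz, hne⟩ : ∃ z, x ⤳ z ∧ x ≠ z := by
    by_contra hh
    push Not at hh
    exact hx (isClosed_of_closure_subset fun z hz => (hh z (specializes_iff_mem_closure.2 hz)).symm)
  have hzS : z ∈ CohB1.support F :=
    hz.mem_closed (Groth.L16.CohSupport.isClosed_support F hF.2) hxS'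
  let c : ↥(CohB1.support F) → TopologicalSpace.IrreducibleCloseds ↥(CohB1.support F) :=
    fun (a : ↥(CohB1.support F)) =>
      ⟨closure ({a} : Set ↥(CohB1.support F)), isIrreducible_singleton.closure, isClosed_closure⟩
  have hlt : c ⟨z, hzS⟩ < c ⟨x, hxS'⟩ := by
    have hs : (⟨x, hxS'⟩ : ↥(CohB1.support F)) ⤳ ⟨z, hzS⟩ := (subtype_specializes_iff _ _).2 hz
    refine lt_of_le_of_ne
      (specializes_iff_closure_subset.1 hs : closure {(⟨z, hzS⟩ : ↥(CohB1.support F))} ⊆ _) fun e => ?_
    have hs' : (⟨z, hzS⟩ : ↥(CohB1.support F)) ⤳ ⟨x, hxS'⟩ := by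
      refine specializes_iff_mem_closure.2 ?_
      rw [show closure ({(⟨z, hzS⟩ : ↥(CohB1.support F))} : Set _) = closure {⟨x, hxS'⟩} from
        congrArg TopologicalSpace.IrreducibleCloseds.carrier e]
      exact subset_closure rfl
    exact hne (congrArg Subtype.val (hs'.antisymm hs).eq).symm
  have h1 := (Order.LTSeries.length_le_krullDim
    ((RelSeries.singleton _ (c ⟨z, hzS⟩)).snoc (c ⟨x, hxS'⟩) hlt)).trans hsupp
  simp only [RelSeries.snoc_length, RelSeries.singleton_length] at h1
  norm_cast at h1

theorem isGloballyGenerated_of_suppClosed [AlgebraicGeometry.IsNoetherian X] {F : X.Modules}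
    (hF : SuppClosed F) : Curv2.IsGloballyGenerated F := by
  refine ⟨Γ(F, ⊤), Sigma.desc fun s : Γ(F, ⊤) => Groth.L16.homOfSection F s, ?_⟩
  refine (Groth.L21.Mod.epi_iff_stalk_surjective _).2 fun x v => ?_
  obtain ⟨s, hs, -⟩ := Groth.L21.RR.exists_section_germ hF x v
  let ιs : Coh.structureModule X ⟶ ∐ fun _ : Γ(F, ⊤) => Coh.structureModule X :=
    Sigma.ι (fun _ : Γ(F, ⊤) => Coh.structureModule X) s
  refine ⟨st ιs x (one X x), ?_⟩
  have h1 : ιs ≫ Sigma.desc (fun s : Γ(F, ⊤) => Groth.L16.homOfSection F s) = Groth.L16.homOfSection F s :=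
    Sigma.ι_desc _ _
  have h2 : st (Groth.L16.homOfSection F s) x (one X x) = v := by
    rw [Groth.L21.RR.st_one _ x (W := ⊤) trivial, Groth.L21.RR.app_homOfSection_one,
      Groth.L18.Frame.rs_self, hs]
  refine Eq.trans ?_ h2
  conv_rhs => rw [← h1]
  simp only [st, Functor.map_comp]
  rfl

/-- Stalks of locally free modules of rank `n`. -/
theorem nonempty_stalk_equiv {n : ℕ} {E : X.Modules} (hE : FlatMod.IsFinLocFreeOfRank n E) (x : X) :
    Nonempty ((Fin n → X.presheaf.stalk x) ≃ₗ[X.presheaf.stalk x] E.presheaf.stalk x) := by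
  obtain ⟨U, hxU, ⟨e⟩⟩ := hE x
  obtain ⟨s, hs⟩ := Groth.L17.FinLocBases.exists_isBasis E e
  have hU : U.ι ''ᵁ ⊤ = U := (Scheme.Hom.image_top_eq_opensRange U.ι).trans U.opensRange_ι
  have hb := Groth.L17.PullBasis.bijective_stalk E s hs x (hU.symm ▸ hxU)
  exact ⟨LinearEquiv.ofBijective
    (Fintype.linearCombination (X.presheaf.stalk x)
      fun j => Groth.L00.StalkTensor.germ (Groth.L00.Tensor.pre E) x (hU.symm ▸ hxU) (s j)) hb⟩

/-- Tensoring with a locally free module of rank `n` multiplies stalks by `n`. -/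
theorem nonempty_stalk_tensor_equiv {n : ℕ} {E : X.Modules} (hE : FlatMod.IsFinLocFreeOfRank n E)
    (F : X.Modules) (x : X) :
    Nonempty ((Fin n → F.presheaf.stalk x) ≃ₗ[X.presheaf.stalk x] (CohB1.tensorMod F E).presheaf.stalk x) := by
  obtain ⟨e⟩ := nonempty_stalk_equiv hE x
  exact ⟨((TensorProduct.congr (LinearEquiv.refl (X.presheaf.stalk x) (F.presheaf.stalk x)) e.symm) ≪≫ₗ
    TensorProduct.piScalarRight (X.presheaf.stalk x) (X.presheaf.stalk x) (F.presheaf.stalk x) (Fin n)).symm ≪≫ₗ
    (Groth.L00.Stk.τ x F E).toLinearEquiv⟩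

variable (k : Type u) [Field k] [X.Over (Spec (CommRingCat.of k))] [AlgebraicGeometry.IsNoetherian X]

/-- `h⁰` of a module whose stalks are `n`-th powers of those of another one. -/
theorem h0_eq_mul_of_stalk_pi {M N : X.Modules} (n : ℕ) (hM : SuppClosed M) (hN : SuppClosed N)
    [Module.Finite k (Coh.HH X M 0)]
    (θ : ∀ x : X, (Fin n → M.presheaf.stalk x) ≃ₗ[X.presheaf.stalk x] N.presheaf.stalk x) :
    h k 0 N = n * h k 0 M := by
  classical
  have hfin : ∀ m : Fin n → Γ(M, ⊤),
      {x : X | θ x (fun j => M.presheaf.germ ⊤ x trivial (m j)) ≠ 0}.Finite := fun m =>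
    (Set.finite_iUnion fun j => Groth.L21.RR.finite_germ_ne_zero hM (m j)).subset fun x hx => by
      rw [Set.mem_iUnion]
      by_contra hc
      push Not at hc
      refine hx ?_
      rw [show (fun j => M.presheaf.germ ⊤ x trivial (m j)) = 0 from funext fun j => by simpa using hc j, map_zero]
  have key : ∀ m : Fin n → Γ(M, ⊤), ∃! t : Γ(N, ⊤), ∀ x,
      N.presheaf.germ ⊤ x trivial t = θ x (fun j => M.presheaf.germ ⊤ x trivial (m j)) := by
    intro m
    obtain ⟨t, ht⟩ := Groth.L21.RR.exists_section_of_finite hN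
      (fun x => θ x (fun j => M.presheaf.germ ⊤ x trivial (m j))) (hfin m).toFinset fun x hx => by
        simpa using hx
    exact ⟨t, ht, fun t' ht' => Groth.L21.RR.germ_ext fun x _ => (ht' x).trans (ht x).symm⟩
  choose T hT hTu using key
  let L : (Fin n → Coh.HH X M 0) →ₗ[k] Coh.HH X N 0 :=
    { toFun := fun a => (e0 N).symm (T fun j => e0 M (a j))
      map_add' := fun a b => (e0 N).injective <| by
        rw [map_add (e0 N), AddEquiv.apply_symm_apply, AddEquiv.apply_symm_apply, AddEquiv.apply_symm_apply]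
        refine (hTu _ _ fun x => ?_).symm
        rw [map_add, hT, hT, ← map_add]
        congr 1
        funext j
        simp only [Pi.add_apply, map_add]
      map_smul' := fun c a => (e0 N).injective <| by
        rw [RingHom.id_apply, Groth.L21.RR.e0_smul k N, AddEquiv.apply_symm_apply, AddEquiv.apply_symm_apply]
        refine (hTu _ _ fun x => ?_).symm
        rw [Groth.L20.ModStalk.germ_smul, hT, ← map_smul]
        congr 1
        funext j
        rw [Pi.smul_apply, Pi.smul_apply, Groth.L21.RR.e0_smul k M]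
        exact (Groth.L20.ModStalk.germ_smul _ _ _ _).symm }
  have hbij : Function.Bijective L := by
    refine ⟨(injective_iff_map_eq_zero L).2 fun a ha => funext fun j => ?_, fun b => ?_⟩
    · refine (e0 M).injective (Groth.L21.RR.germ_ext fun x hx => ?_)
      have h1 : (T fun j => e0 M (a j)) = 0 := by
        have h2 := congrArg (e0 N) ha
        rw [map_zero] at h2
        exact ((e0 N).apply_symm_apply _).symm.trans h2
      have h3 := hT (fun j => e0 M (a j)) x
      rw [h1, map_zero] at h3
      rw [Pi.zero_apply, map_zero, map_zero]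
      exact congrFun ((θ x).injective (h3.symm.trans (map_zero _).symm)) j
    · have hex : ∀ j, ∃ m : Γ(M, ⊤), ∀ x,
          M.presheaf.germ ⊤ x trivial m = (θ x).symm (N.presheaf.germ ⊤ x trivial (e0 N b)) j := fun j =>
        Groth.L21.RR.exists_section_of_finite hM
          (fun x => (θ x).symm (N.presheaf.germ ⊤ x trivial (e0 N b)) j)
          (Groth.L21.RR.finite_germ_ne_zero hN (e0 N b)).toFinset fun x hx => by
            simp only [Set.Finite.mem_toFinset, Set.mem_setOf_eq, not_not] at hx
            rw [hx, map_zero]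
            rfl
      choose m hm using hex
      refine ⟨fun j => (e0 M).symm (m j), (e0 N).injective ?_⟩
      change e0 N ((e0 N).symm (T fun j => e0 M ((e0 M).symm (m j)))) = e0 N b
      simp only [AddEquiv.apply_symm_apply]
      exact (hTu m (e0 N b) fun x => by simp only [hm, LinearEquiv.apply_symm_apply]).symm
  rw [show h k 0 N = Module.finrank k (Fin n → Coh.HH X M 0) from
    ((LinearEquiv.ofBijective L hbij).finrank_eq).symm, Module.finrank_pi_fintype]
  simp

omit k in
theorem suppClosed_tensor_locFree {n : ℕ} {E : X.Modules} (hE : FlatMod.IsFinLocFreeOfRank n E) {F : X.Modules}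
    (hF : SuppClosed F) : SuppClosed (CohB1.tensorMod F E) := fun x hx => by
  obtain ⟨θ⟩ := nonempty_stalk_tensor_equiv hE F x
  haveI := hF x hx
  exact θ.symm.toEquiv.subsingleton

theorem euler_tensor_locFree [IsProper (X ↘ Spec (CommRingCat.of k))] {n : ℕ} {E : X.Modules}
    (hE : FlatMod.IsFinLocFreeOfRank n E) {F : X.Modules} (hF : Coh.IsCoh F) (hs : SuppClosed F) :
    Curv2.euler k X (CohB1.tensorMod F E) = n * Curv2.euler k X F := by
  haveI := Groth.L21.RR.finite_HH' k hF 0
  rw [Groth.L21.RR.euler_eq_h0_of_suppClosed k (suppClosed_tensor_locFree hE hs),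
    Groth.L21.RR.euler_eq_h0_of_suppClosed k hs,
    h0_eq_mul_of_stalk_pi k n hs (suppClosed_tensor_locFree hE hs) fun x =>
      (nonempty_stalk_tensor_equiv hE F x).some]
  push_cast
  rfl

end Groth.L22.CurveDeg
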