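import Groth.Agent.L21.RR.Sections
import Groth.Agent.L21.RR.Finite
import Groth.Agent.L03.Euler.Section

/-!
Nonzero maps of invertible modules on integral curves.
-/

set_option autoImplicit false
set_option backward.isDefEq.respectTransparency false
set_option linter.style.haveILetI false
universe u

open CategoryTheory CategoryTheory.Limits AlgebraicGeometry TopologicalSpace Opposite

noncomputable section

namespace Groth.L22.CurveDeg

open Groth.L18.Frame (rs ro rs_rs rs_self IsFrame)
open Groth.L21.RR (st st_germ SuppClosed bijective_germ_frame h)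

variable {X : Scheme.{u}} [IsIntegral X] {N L : X.Modules}

theorem exists_coeff_map (hN : PicF.IsInvertible N) (hL : PicF.IsInvertible L) (φ : N ⟶ L) (x : X) :
    ∃ (W : X.Opens) (hx : x ∈ W) (e : Γ(N, W)) (e' : Γ(L, W)) (a : Γ(X, W)),
      IsFrame N W e ∧ IsFrame L W e' ∧ φ.app W e = a • e' := by
  obtain ⟨W₁, e, h₁, he⟩ := Groth.L18.Frame.exists_frame hN x
  obtain ⟨W₂, e', h₂, he'⟩ := Groth.L18.Frame.exists_frame hL x
  obtain ⟨a, ha⟩ := (he'.mono (inf_le_right : W₁ ⊓ W₂ ≤ W₂)).exists_coeff le_rfl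
    (φ.app (W₁ ⊓ W₂) (rs N inf_le_left e))
  rw [rs_self] at ha
  exact ⟨W₁ ⊓ W₂, ⟨h₁, h₂⟩, _, _, a, he.mono inf_le_left, he'.mono inf_le_right, ha.symm⟩

theorem coeff_ne_zero (hN : PicF.IsInvertible N) (hL : PicF.IsInvertible L) {φ : N ⟶ L} (hφ : φ ≠ 0)
    {W : X.Opens} {e : Γ(N, W)} {e' : Γ(L, W)} {a : Γ(X, W)} (he : IsFrame N W e) (he' : IsFrame L W e')
    (ha : φ.app W e = a • e') (hW : (W : Set X).Nonempty) : a ≠ 0 := by
  intro h0
  have hη : genericPoint X ∈ W := ((genericPoint_spec X).mem_open_set_iff W.2).2 (by simpa using hW)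
  have hzero : st φ (genericPoint X) (N.presheaf.germ W _ hη e) = 0 := by
    rw [st_germ φ hη e, ha, h0, zero_smul, map_zero]
  refine hφ (Groth.L21.Mod.hom_ext_stalk fun x => ?_)
  obtain ⟨V, hxV, ε, ε', b, hε, hε', hb⟩ := exists_coeff_map hN hL φ x
  have hηV : genericPoint X ∈ V := ((genericPoint_spec X).specializes trivial).mem_open V.2 hxV
  have hb0 : b = 0 := by
    obtain ⟨r, hr⟩ := (bijective_germ_frame he hη).2 (N.presheaf.germ V _ hηV ε)
    have h1 : st φ (genericPoint X) (N.presheaf.germ V _ hηV ε) = 0 := by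
      rw [← hr]
      show st φ (genericPoint X) (r • N.presheaf.germ W _ hη e) = 0
      rw [map_smul, hzero, smul_zero]
    rw [st_germ φ hηV ε, hb, Groth.L20.ModStalk.germ_smul] at h1
    have h2 := (bijective_germ_frame hε' hηV).1 (h1.trans (zero_smul (X.presheaf.stalk _) _).symm)
    exact germ_injective_of_isIntegral X _ hηV (h2.trans (map_zero _).symm)
  rw [Functor.map_zero]
  ext v
  obtain ⟨r, rfl⟩ := (bijective_germ_frame hε hxV).2 v
  show st φ x (r • N.presheaf.germ V x hxV ε) = 0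
  rw [map_smul, st_germ φ hxV ε, hb, hb0, zero_smul, map_zero, smul_zero]

theorem injective_st_map (hN : PicF.IsInvertible N) (hL : PicF.IsInvertible L) {φ : N ⟶ L} (hφ : φ ≠ 0)
    (x : X) : Function.Injective (st φ x) := by
  obtain ⟨W, hx, e, e', a, he, he', ha⟩ := exists_coeff_map hN hL φ x
  have ha0 := coeff_ne_zero hN hL hφ he he' ha ⟨x, hx⟩
  refine (injective_iff_map_eq_zero _).2 fun v hv => ?_
  obtain ⟨r, rfl⟩ := (bijective_germ_frame he hx).2 v
  change st φ x (r • N.presheaf.germ W x hx e) = 0 at hv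
  rw [map_smul, st_germ φ hx e, ha, Groth.L20.ModStalk.germ_smul, smul_smul] at hv
  have h0 := (bijective_germ_frame he' hx).1 (hv.trans (zero_smul (X.presheaf.stalk x) _).symm)
  rcases mul_eq_zero.1 h0 with h | h
  · show r • N.presheaf.germ W x hx e = 0
    rw [h, zero_smul]
  · exact absurd (germ_injective_of_isIntegral X x hx (h.trans (map_zero _).symm)) ha0

theorem surjective_st_map_of_not_isClosed (hd : topologicalKrullDim X ≤ 1) (hN : PicF.IsInvertible N)
    (hL : PicF.IsInvertible L) {φ : N ⟶ L} (hφ : φ ≠ 0) {x : X} (hc : ¬ IsClosed ({x} : Set X)) :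
    Function.Surjective (st φ x) := by
  obtain ⟨W, hx, e, e', a, he, he', ha⟩ := exists_coeff_map hN hL φ x
  have ha0 : X.presheaf.germ W x hx a ≠ 0 := fun h =>
    coeff_ne_zero hN hL hφ he he' ha ⟨x, hx⟩ (germ_injective_of_isIntegral X x hx (h.trans (map_zero _).symm))
  obtain ⟨c, hc⟩ := (Groth.L21.RR.stalk_isField hd hc).mul_inv_cancel ha0
  intro v
  obtain ⟨r, rfl⟩ := (bijective_germ_frame he' hx).2 v
  refine ⟨(r * c) • N.presheaf.germ W x hx e, ?_⟩
  rw [map_smul, st_germ φ hx e, ha, Groth.L20.ModStalk.germ_smul, smul_smul, mul_assoc, mul_comm c, hc, mul_one]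

variable (k : Type u) [Field k] [X.Over (Spec (CommRingCat.of k))] [IsProper (X ↘ Spec (CommRingCat.of k))]

/-- The degree drop of a nonzero map. -/
theorem deg_add (hd : topologicalKrullDim X ≤ 1) (hN : PicF.IsInvertible N) (hL : PicF.IsInvertible L)
    {φ : N ⟶ L} (hφ : φ ≠ 0) :
    Curv2.deg k X L 1 = Curv2.deg k X N 1 + (h k 0 (cokernel φ) : ℤ) ∧
      (h k 0 (cokernel φ) = 0 → IsIso φ) := by
  haveI := Groth.L21.RR.isNoetherian_of_proper (X := X) k
  haveI : Mono φ := (Groth.L21.Mod.mono_iff_stalk_injective φ).2 fun x => injective_st_map hN hL hφ x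
  have hS : (ShortComplex.mk φ (cokernel.π φ) (cokernel.condition φ)).ShortExact :=
    { exact := ShortComplex.exact_cokernel φ }
  have hs : SuppClosed (cokernel φ) := Groth.L21.RR.suppClosed_cokernel_of_surjective φ fun x hx =>
    (show Function.Surjective (st φ x) from surjective_st_map_of_not_isClosed hd hN hL hφ hx)
  have hNc := Groth.L16.ProperFinite.isCoh_of_isInvertible hN
  have hLc := Groth.L16.ProperFinite.isCoh_of_isInvertible hL
  have hQ := (Groth.L16.CohKernel.isCoh_kernel_cokernel hNc hLc φ).2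
  refine ⟨?_, fun h0 => ?_⟩
  · rw [Curv2.deg, Curv2.deg, Groth.L21.RR.euler_add k hd hS hNc hLc hQ,
      Groth.L21.RR.euler_eq_h0_of_suppClosed k hs]
    push_cast
    ring
  · haveI := Groth.L21.RR.finite_HH' k hQ 0
    have hsub : Subsingleton (Coh.HH X (cokernel φ) 0) := Module.finrank_zero_iff.1 h0
    refine (Groth.L21.Mod.isIso_iff_stalk_bijective φ).2 fun x => ⟨injective_st_map hN hL hφ x, ?_⟩
    refine (Groth.L03.Euler.notMem_support_cokernel_iff φ).1 fun hx => hx ?_
    refine ⟨fun p q => ?_⟩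
    obtain ⟨s, hs1, -⟩ := Groth.L21.RR.exists_section_germ hs x p
    obtain ⟨s', hs2, -⟩ := Groth.L21.RR.exists_section_germ hs x q
    rw [← hs1, ← hs2, show s = s' from (Groth.L21.RR.e0 (cokernel φ)).symm.injective (Subsingleton.elim _ _)]

theorem deg_structure : Curv2.deg k X (Coh.structureModule X) 1 = 0 := by
  rw [Curv2.deg]; simp

end Groth.L22.CurveDeg
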