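import Groth.Agent.L22.CurveDeg.ZeroDim
import Groth.Agent.L16.Devissage
import Groth.Agent.L03.Euler.Twist
import Groth.Agent.L03.Euler.Push
import Groth.Agent.L17.ProjFormula
import Groth.Agent.L18.LocFreeFP
import Groth.Agent.L29.DCoh.PCQCoh
import Groth.Agent.L16.Exist.PushPull
import Groth.Agent.L19.ProjBdl.Points

/-!
`χ(E ⊗ F) - n χ(F)` on a proper scheme of dimension at most one, by dévissage.
-/

set_option autoImplicit false
set_option backward.isDefEq.respectTransparency false
set_option linter.style.haveILetI false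
set_option maxHeartbeats 400000
universe u

open CategoryTheory CategoryTheory.Limits AlgebraicGeometry TopologicalSpace Opposite

noncomputable section

namespace Groth.L22.CurveDeg

open Groth.L16.CohSupport (len len_add len_congr len_eq_zero_iff len_ne_top)
open Groth.L21.RR (SuppClosed h)

variable {X : Scheme.{u}}

theorem isFinLocFree_of_rank {n : ℕ} {E : X.Modules} (hE : FlatMod.IsFinLocFreeOfRank n E) :
    FlatMod.IsFinLocFree E := fun x => by
  obtain ⟨U, hU, e⟩ := hE x
  exact ⟨U, n, hU, e⟩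

theorem isCoh_tensor_locFree [IsLocallyNoetherian X] {n : ℕ} {E M : X.Modules}
    (hE : FlatMod.IsFinLocFreeOfRank n E) (hM : Coh.IsCoh M) : Coh.IsCoh (CohB1.tensorMod E M) := by
  have hEf := isFinLocFree_of_rank hE
  haveI : Coh.IsQCoh E := Groth.L29.DC.PCQCoh.isQCoh_of_isFinLocFree hEf
  haveI hEfp : CohB1.IsFP E := Groth.L18.LFP.isFP_of_isFinLocFree E hEf
  have hEft : CohB1.IsFT E := inferInstance
  haveI : Coh.IsQCoh M := hM.1
  exact ⟨Groth.L00.Tensor.isQCoh_tensorMod _ _, Groth.L00.Tensor.isFT_tensorMod _ _ hEft hM.2⟩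

/-- A non-closed point of a space of dimension at most one is a maximal point. -/
theorem eq_of_specializes_nonclosed (hd : topologicalKrullDim X ≤ 1) {x y : X}
    (hx : ¬ IsClosed ({x} : Set X)) (h : y ⤳ x) : y = x := by
  by_contra hne
  obtain ⟨z, hxz, hzne⟩ : ∃ z, x ⤳ z ∧ x ≠ z := by
    by_contra hh
    push Not at hh
    exact hx (isClosed_of_closure_subset fun z hz => (hh z (specializes_iff_mem_closure.2 hz)).symm)
  let c : X → IrreducibleCloseds X :=
    fun a => ⟨closure ({a} : Set X), isIrreducible_singleton.closure, isClosed_closure⟩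
  have hlt : ∀ {a b : X}, a ⤳ b → a ≠ b → c b < c a := by
    intro a b hab hne'
    refine lt_of_le_of_ne (specializes_iff_closure_subset.1 hab : closure {b} ⊆ _) fun e => ?_
    have : b ⤳ a := specializes_iff_mem_closure.2 (by
      rw [show closure ({b} : Set X) = closure {a} from congrArg IrreducibleCloseds.carrier e]
      exact subset_closure rfl)
    exact hne' (this.antisymm hab).eq.symm
  have h1 := (Order.LTSeries.length_le_krullDim
    (((RelSeries.singleton _ (c z)).snoc (c x) (hlt hxz hzne)).snoc (c y)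
      (by simpa using hlt h hne))).trans hd
  simp only [RelSeries.snoc_length, RelSeries.singleton_length] at h1
  norm_cast at h1

theorem mem_closure_nonclosed (hd : topologicalKrullDim X ≤ 1) {x y : X}
    (hx : ¬ IsClosed ({x} : Set X)) (h : x ∈ closure ({y} : Set X)) : y = x :=
  eq_of_specializes_nonclosed hd hx (specializes_iff_mem_closure.2 h)

theorem finite_nonclosed [NoetherianSpace X] (hd : topologicalKrullDim X ≤ 1) :
    {x : X | ¬ IsClosed ({x} : Set X)}.Finite := by
  obtain ⟨S, hSf, hSc, hSi, hSu⟩ :=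
    NoetherianSpace.exists_finite_set_isClosed_irreducible (α := X) (s := Set.univ) isClosed_univ
  have hg : ∀ t ∈ S, ∃ g : X, IsGenericPoint g t := fun t ht => QuasiSober.sober (hSi t ht) (hSc t ht)
  choose g hg using hg
  refine ((hSf.dependent_image g)).subset fun x hx => ?_
  obtain ⟨t, ht, hxt⟩ : x ∈ ⋃₀ S := hSu ▸ Set.mem_univ x
  exact ⟨t, ht, eq_of_specializes_nonclosed hd hx ((hg t ht).specializes hxt)⟩

variable (k : Type u) [Field k] [X.Over (Spec (CommRingCat.of k))]

/-- `χ(E ⊗ F) - n χ(F)`. -/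
def phi (E : X.Modules) (n : ℕ) (F : X.Modules) : ℤ :=
  Curv2.euler k X (CohB1.tensorMod E F) - n * Curv2.euler k X F

theorem phi_congr (E : X.Modules) (n : ℕ) {F G : X.Modules} (e : F ≅ G) : phi k E n F = phi k E n G := by
  rw [phi, phi, Groth.L03.Euler.euler_iso e,
    Groth.L03.Euler.euler_iso (Groth.L00.Tensor.tensorIso (Iso.refl E) e)]

theorem phi_structure (E : X.Modules) (n : ℕ) : phi k E n (Coh.structureModule X) = Curv2.deg k X E n := by
  rw [phi, Curv2.deg, Groth.L03.Euler.euler_iso (Groth.L00.Tensor.tensorUnitRight E)]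

theorem euler_tensor_push {Y : Scheme.{u}} [Y.Over (Spec (CommRingCat.of k))] (f : X ⟶ Y) [IsAffineHom f]
    [Y.IsSeparated] (hf : f ≫ (Y ↘ Spec (CommRingCat.of k)) = X ↘ Spec (CommRingCat.of k))
    {E : Y.Modules} (hE : FlatMod.IsFinLocFree E) (M : X.Modules) (hM : Coh.IsQCoh M) :
    Curv2.euler k Y (CohB1.tensorMod E ((Scheme.Modules.pushforward f).obj M)) =
      Curv2.euler k X (CohB1.tensorMod ((Scheme.Modules.pullback f).obj E) M) := by
  haveI := Groth.L17.ProjFormula.isIso_θ f E M hE
  haveI : Coh.IsQCoh ((Scheme.Modules.pullback f).obj E) :=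
    Groth.L29.DC.PCQCoh.isQCoh_of_isFinLocFree (Groth.L29.LocFree.pullback f hE)
  haveI := hM
  rw [Groth.L03.Euler.euler_iso (asIso (Groth.L17.ClosedPush.θ f M E))]
  exact Groth.L03.Euler.euler_push f _ (Groth.L00.Tensor.isQCoh_tensorMod _ _) hf

theorem phi_push {Y : Scheme.{u}} [Y.Over (Spec (CommRingCat.of k))] (f : X ⟶ Y) [IsAffineHom f]
    [Y.IsSeparated] (hf : f ≫ (Y ↘ Spec (CommRingCat.of k)) = X ↘ Spec (CommRingCat.of k))
    {n : ℕ} {E : Y.Modules} (hE : FlatMod.IsFinLocFreeOfRank n E) (M : X.Modules) (hM : Coh.IsQCoh M) :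
    phi k E n ((Scheme.Modules.pushforward f).obj M) = phi k ((Scheme.Modules.pullback f).obj E) n M := by
  rw [phi, phi, euler_tensor_push k f hf (isFinLocFree_of_rank hE) M hM]
  congr 2
  exact Groth.L03.Euler.euler_push f M hM hf

variable [IsProper (X ↘ Spec (CommRingCat.of k))]

theorem phi_add {n : ℕ} {E : X.Modules} (hE : FlatMod.IsFinLocFreeOfRank n E) {S : ShortComplex X.Modules}
    (hS : S.ShortExact) (h₁ : Coh.IsCoh S.X₁) (h₂ : Coh.IsCoh S.X₂) (h₃ : Coh.IsCoh S.X₃) :
    phi k E n S.X₂ = phi k E n S.X₁ + phi k E n S.X₃ := by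
  haveI := Groth.L21.RR.isNoetherian_of_proper (X := X) k
  have hflat : FlatMod.IsFlat E := Groth.L29.DC.isFlat_of_isFinLocFree (isFinLocFree_of_rank hE)
  have hT : (S.map ((DCoh.tensorBi (X := X)).obj E)).ShortExact :=
    Groth.L16.FrameIso.shortExact_tensor_left hflat S hS
  have c₁ : Coh.IsCoh (S.map ((DCoh.tensorBi (X := X)).obj E)).X₁ := isCoh_tensor_locFree hE h₁
  have c₂ : Coh.IsCoh (S.map ((DCoh.tensorBi (X := X)).obj E)).X₂ := isCoh_tensor_locFree hE h₂
  have c₃ : Coh.IsCoh (S.map ((DCoh.tensorBi (X := X)).obj E)).X₃ := isCoh_tensor_locFree hE h₃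
  have key := Groth.L03.Euler.euler_add (k := k) hT c₁ c₂ c₃
  change Curv2.euler k X (CohB1.tensorMod E S.X₂) =
    Curv2.euler k X (CohB1.tensorMod E S.X₁) + Curv2.euler k X (CohB1.tensorMod E S.X₃) at key
  rw [phi, phi, phi, key, Groth.L03.Euler.euler_add hS h₁ h₂ h₃]
  ring

theorem phi_eq_zero {n : ℕ} {E : X.Modules} (hE : FlatMod.IsFinLocFreeOfRank n E) {F : X.Modules}
    (hF : Coh.IsCoh F) (hs : SuppClosed F) : phi k E n F = 0 := by
  haveI := Groth.L21.RR.isNoetherian_of_proper (X := X) k
  rw [phi, Groth.L03.Euler.euler_iso (Groth.L00.Tensor.tensorComm E F),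
    euler_tensor_locFree k hE hF hs, sub_self]

/-- The dévissage formula. -/
theorem phi_eq_sum (hd : topologicalKrullDim X ≤ 1) {n : ℕ} {E : X.Modules}
    (hE : FlatMod.IsFinLocFreeOfRank n E) (S : Finset X) (hS : ∀ x, x ∈ S ↔ ¬ IsClosed ({x} : Set X))
    (G : X → X.Modules) (hG : ∀ y ∈ S, Coh.IsCoh (G y) ∧ CohB1.support (G y) ⊆ closure {y} ∧ len y (G y) = 1)
    {F : X.Modules} (hF : Coh.IsCoh F) :
    phi k E n F = ∑ y ∈ S, ((len y F).toNat : ℤ) * phi k E n (G y) := by
  classical
  haveI := Groth.L21.RR.isNoetherian_of_proper (X := X) k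
  let R : X.Modules → ℤ := fun F => ∑ y ∈ S, ((len y F).toNat : ℤ) * phi k E n (G y)
  let P : X.Modules → Prop := fun F => phi k E n F = R F
  have hRclosed : ∀ {F : X.Modules}, SuppClosed F → R F = 0 := fun {F} hs =>
    Finset.sum_eq_zero fun y hy => by
      haveI := hs y ((hS y).1 hy)
      rw [show len y F = 0 from Module.length_eq_zero]
      simp
  have hR : ∀ {T : ShortComplex X.Modules}, T.ShortExact → Coh.IsCoh T.X₁ → Coh.IsCoh T.X₂ →
      Coh.IsCoh T.X₃ → R T.X₂ = R T.X₁ + R T.X₃ := by
    intro T hT h₁ _ h₃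
    rw [← Finset.sum_add_distrib]
    refine Finset.sum_congr rfl fun y hy => ?_
    have hy' := (hS y).1 hy
    rw [len_add hT y, ENat.toNat_add
      (len_ne_top h₁ fun z _ hz => eq_of_specializes_nonclosed hd hy' hz)
      (len_ne_top h₃ fun z _ hz => eq_of_specializes_nonclosed hd hy' hz)]
    push_cast
    ring
  refine Groth.L16.Devissage.devissage P isClosed_univ ?_ ?_ ?_ ?_ hF (Set.subset_univ _)
  · rintro M N ⟨e⟩ hM
    show phi k E n N = R N
    rw [← phi_congr k E n e, show phi k E n M = R M from hM]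
    exact Finset.sum_congr rfl fun y _ => by rw [len_congr e]
  · intro M hM
    have hs : SuppClosed M := fun x _ => (Groth.L00.Stk.F X x).map_isZero hM |> ModuleCat.subsingleton_of_isZero
    have hc := Groth.L16.Devissage.isCoh_of_isZero hM
    show phi k E n M = R M
    rw [phi_eq_zero k hE hc hs, hRclosed hs]
  · intro T hT h₁ h₂ h₃ _
    have a := phi_add k hE hT h₁ h₂ h₃
    have b := hR hT h₁ h₂ h₃
    show (phi k E n T.X₁ = R T.X₁ → phi k E n T.X₂ = R T.X₂ → phi k E n T.X₃ = R T.X₃) ∧
      (phi k E n T.X₁ = R T.X₁ → phi k E n T.X₃ = R T.X₃ → phi k E n T.X₂ = R T.X₂) ∧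
      (phi k E n T.X₂ = R T.X₂ → phi k E n T.X₃ = R T.X₃ → phi k E n T.X₁ = R T.X₁)
    refine ⟨?_, ?_, ?_⟩ <;> intros <;> omega
  · intro y _
    by_cases hy : y ∈ S
    · obtain ⟨hGc, hGs, hGl⟩ := hG y hy
      refine ⟨G y, hGc, ?_, hGs, hGl⟩
      show phi k E n (G y) = R (G y)
      simp only [R]
      rw [Finset.sum_eq_single y, hGl]
      · simp
      · intro z hz hzy
        have : len z (G y) = 0 := (len_eq_zero_iff z (G y)).2 fun hmem =>
          hzy (mem_closure_nonclosed hd ((hS z).1 hz) (hGs hmem)).symm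
        rw [this]
        simp
      · exact fun h => absurd hy h
    · have hyc : IsClosed ({y} : Set X) := by
        by_contra hc
        exact hy ((hS y).2 hc)
      obtain ⟨Z, i, hi, hZ, hgen, hrange⟩ := Groth.L16.CohClosedPush.exists_integral y
      haveI : IsLocallyNoetherian Z := LocallyOfFiniteType.isLocallyNoetherian i
      let G₀ := (Coh.push i).obj (Coh.structureModule Z)
      have hG₀ : Coh.IsCoh G₀ := Groth.L16.CohClosedPush.isCoh_push i Groth.L16.CohClosedPush.isCoh_structure
      have hsG : CohB1.support G₀ ⊆ closure {y} :=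
        (Groth.L16.CohClosedPush.support_push_subset i _).trans hrange.le
      have hs : SuppClosed G₀ := fun x hx => by
        by_contra hns
        have : x ∈ closure ({y} : Set X) := hsG hns
        rw [hyc.closure_eq] at this
        exact hx ((Set.mem_singleton_iff.1 this) ▸ hyc)
      refine ⟨G₀, hG₀, ?_, hsG, hgen ▸ Groth.L16.CohClosedPush.len_push_structure i⟩
      show phi k E n G₀ = R G₀
      rw [phi_eq_zero k hE hG₀ hs, hRclosed hs]

/-- Modules with the same generic lengths have the same invariant. -/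
theorem phi_eq_of_len (hd : topologicalKrullDim X ≤ 1) {n : ℕ} {E : X.Modules}
    (hE : FlatMod.IsFinLocFreeOfRank n E) {A B : X.Modules} (hA : Coh.IsCoh A) (hB : Coh.IsCoh B)
    (h : ∀ y : X, ¬ IsClosed ({y} : Set X) → len y A = len y B) : phi k E n A = phi k E n B := by
  classical
  haveI := Groth.L21.RR.isNoetherian_of_proper (X := X) k
  let S := (finite_nonclosed hd).toFinset
  have hS : ∀ x, x ∈ S ↔ ¬ IsClosed ({x} : Set X) := fun x => Set.Finite.mem_toFinset _
  have hG : ∀ y : X, ∃ G : X.Modules, Coh.IsCoh G ∧ CohB1.support G ⊆ closure {y} ∧ len y G = 1 := fun y => by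
    obtain ⟨Z, i, hi, hZ, hgen, hrange⟩ := Groth.L16.CohClosedPush.exists_integral y
    haveI : IsLocallyNoetherian Z := LocallyOfFiniteType.isLocallyNoetherian i
    exact ⟨_, Groth.L16.CohClosedPush.isCoh_push i Groth.L16.CohClosedPush.isCoh_structure,
      (Groth.L16.CohClosedPush.support_push_subset i _).trans hrange.le,
      hgen ▸ Groth.L16.CohClosedPush.len_push_structure i⟩
  choose G hG using hG
  rw [phi_eq_sum k hd hE S hS G (fun y _ => hG y) hA, phi_eq_sum k hd hE S hS G (fun y _ => hG y) hB]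
  exact Finset.sum_congr rfl fun y hy => by rw [h y ((hS y).1 hy)]

/-- On an integral curve only the generic length matters. -/
theorem phi_eq_of_integral [IsIntegral X] (hd : topologicalKrullDim X = 1) {n : ℕ} {E : X.Modules}
    (hE : FlatMod.IsFinLocFreeOfRank n E) {F : X.Modules} (hF : Coh.IsCoh F) :
    phi k E n F = ((len (genericPoint X) F).toNat : ℤ) * Curv2.deg k X E n := by
  classical
  haveI := Groth.L21.RR.isNoetherian_of_proper (X := X) k
  have hη : ¬ IsClosed ({genericPoint X} : Set X) := by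
    intro hc
    have huniv : ∀ y : X, y = genericPoint X := fun y =>
      hc.closure_eq.le (((genericPoint_spec X).specializes trivial).mem_closure)
    haveI : Subsingleton X := ⟨fun a b => (huniv a).trans (huniv b).symm⟩
    haveI : DiscreteTopology X := Subsingleton.discreteTopology
    have := topologicalKrullDim_zero_of_discreteTopology X
    rw [hd] at this
    exact absurd this (by decide)
  have hS : ∀ x, x ∈ ({genericPoint X} : Finset X) ↔ ¬ IsClosed ({x} : Set X) := fun x => by
    rw [Finset.mem_singleton]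
    exact ⟨fun e => e ▸ hη, fun hx =>
      (eq_of_specializes_nonclosed hd.le hx ((genericPoint_spec X).specializes trivial)).symm⟩
  rw [phi_eq_sum k hd.le hE _ hS (fun _ => Coh.structureModule X) (fun y hy => ?_) hF, Finset.sum_singleton,
    phi_structure]
  rw [Finset.mem_singleton] at hy
  subst hy
  refine ⟨Groth.L16.CohClosedPush.isCoh_structure, ?_, ?_⟩
  · rw [(genericPoint_spec X).def]
    exact Set.subset_univ _
  · obtain ⟨e⟩ := nonempty_stalk_equiv (n := 1) (E := Coh.structureModule X)
      (Groth.L19.ProjBdl.isFinLocFreeOfRank_one_structureModule) (genericPoint X)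
    show Module.length _ _ = 1
    rw [← e.length_eq, (LinearEquiv.funUnique (Fin 1) _ _).length_eq]
    letI : Field (X.presheaf.stalk (genericPoint X)) := inferInstanceAs (Field X.functionField)
    exact Module.length_eq_one_iff.2 inferInstance

end Groth.L22.CurveDeg
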