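import Groth.Agent.L22.CurveDeg.Devissage
import Groth.Agent.L17.ClosedPush
import Groth.Agent.L16.CohSupport
import Groth.Prelude.Def_ResDeg

/-!
The stalk of a pushforward at a point with a single preimage, and generic ranks of finite pushforwards.
-/

set_option autoImplicit false
set_option backward.isDefEq.respectTransparency false
set_option linter.style.haveILetI false
set_option maxHeartbeats 400000
universe u

open CategoryTheory CategoryTheory.Limits AlgebraicGeometry TopologicalSpace Opposite

noncomputable section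

namespace Groth.L22.CurveDeg

open Groth.L00.Tensor (pre rs)
open Groth.L00.StalkTensor (germ exists_germ germ_eq germ_rs St)
open Groth.L00.PullStalk (φ)
open Groth.L17.ClosedPush (c₀ c₀_germ cHom)
open Groth.L16.CohSupport (len)

variable {X Y : Scheme.{u}} (f : X ⟶ Y)

/-- A closed map computes stalks of pushforwards at points with a single preimage. -/
theorem c₀_bijective_of_fiber (hf : IsClosedMap f) {x : X} (hx : ∀ x', f x' = f x → x' = x) (M : X.Modules) :
    Function.Bijective (c₀ f M x) := by
  have hnhd : ∀ U : X.Opens, x ∈ U → ∃ V : Y.Opens, f x ∈ V ∧ f ⁻¹ᵁ V ≤ U := fun U hU => by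
    refine ⟨⟨(f '' (U : Set X)ᶜ)ᶜ, (hf _ U.2.isClosed_compl).isOpen_compl⟩, ?_, fun y hy => ?_⟩
    · rintro ⟨x', hx', he⟩
      exact hx' (hx x' he ▸ hU)
    · by_contra hc
      exact hy ⟨y, hc, rfl⟩
  refine ⟨(injective_iff_map_eq_zero _).2 fun p hp => ?_, fun q => ?_⟩
  · obtain ⟨V, hV, m, rfl⟩ := exists_germ (pre ((Scheme.Modules.pushforward f).obj M)) (f x) p
    rw [c₀_germ, ← map_zero (germ (pre M) x (show x ∈ f ⁻¹ᵁ V from hV))] at hp
    obtain ⟨W, hW, i, i', he⟩ := germ_eq (pre M) x (show x ∈ f ⁻¹ᵁ V from hV) (show x ∈ f ⁻¹ᵁ V from hV) hp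
    obtain ⟨V', hV', hV'W⟩ := hnhd W hW
    let j : V ⊓ V' ⟶ V := homOfLE inf_le_left
    rw [← germ_rs (pre ((Scheme.Modules.pushforward f).obj M)) (f x) j (⟨hV, hV'⟩ : f x ∈ V ⊓ V') m]
    refine (congrArg _ ?_).trans (map_zero (germ (pre ((Scheme.Modules.pushforward f).obj M)) (f x) _))
    have hle : f ⁻¹ᵁ (V ⊓ V') ≤ W := fun y hy => hV'W hy.2
    have h1 := congrArg (fun t => (M.presheaf.map (homOfLE hle).op) t) he
    refine Eq.trans ?_ ((h1.trans ?_))
    · refine Eq.trans ?_ (congrArg (fun g => (ConcreteCategory.hom g) m) (M.presheaf.map_comp i.op (homOfLE hle).op))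
      exact congrArg (fun g => (ConcreteCategory.hom (M.presheaf.map g)) m) (Subsingleton.elim _ _)
    · exact (congrArg _ (map_zero (M.presheaf.map i'.op).hom)).trans (map_zero _)
  · obtain ⟨U, hU, m, rfl⟩ := exists_germ (pre M) x q
    obtain ⟨V, hV, hVU⟩ := hnhd U hU
    refine ⟨germ (pre ((Scheme.Modules.pushforward f).obj M)) (f x) hV
      (rs (pre M) (homOfLE hVU : f ⁻¹ᵁ V ⟶ U).op m), ?_⟩
    exact (c₀_germ f M x hV _).trans (germ_rs (pre M) x (homOfLE hVU : f ⁻¹ᵁ V ⟶ U) hV m)

/-- The generic rank of the pushforward of the structure module is the residue degree. -/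
theorem len_push_structure_eq_residueDegree [IsIntegral X] [IsIntegral Y] (hf : IsClosedMap f)
    (hξ : f (genericPoint X) = genericPoint Y)
    (huniq : ∀ x', f x' = genericPoint Y → x' = genericPoint X) :
    (len (genericPoint Y) ((Scheme.Modules.pushforward f).obj (Coh.structureModule X))).toNat =
      f.residueDegree (genericPoint X) := by
  rw [← hξ]
  let x := genericPoint X
  have hx : ∀ x', f x' = f x → x' = x := fun x' h => huniq x' (h.trans hξ)
  have hfy : IsField (Y.presheaf.stalk (f x)) := by
    rw [show f x = genericPoint Y from hξ]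
    exact Field.toIsField Y.functionField
  letI : Field (Y.presheaf.stalk (f x)) := hfy.toField
  letI : Field (X.presheaf.stalk x) := inferInstanceAs (Field X.functionField)
  haveI : IsIso (cHom f (Coh.structureModule X) x) :=
    (ConcreteCategory.isIso_iff_bijective _).2 (c₀_bijective_of_fiber f hf hx _)
  let e₁ := (asIso (cHom f (Coh.structureModule X) x)).toLinearEquiv
  have h1 : len (f x) ((Scheme.Modules.pushforward f).obj (Coh.structureModule X)) =
      Module.length (Y.presheaf.stalk (f x))
        ((ModuleCat.restrictScalars (φ f x)).obj ((Groth.L00.Stk.F X x).obj (Coh.structureModule X))) :=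
    e₁.length_eq
  letI : Algebra (Y.presheaf.stalk (f x)) (X.presheaf.stalk x) := (φ f x).toAlgebra
  let one := Groth.L21.RR.one X x
  let N := (ModuleCat.restrictScalars (φ f x)).obj ((Groth.L00.Stk.F X x).obj (Coh.structureModule X))
  let l : X.presheaf.stalk x →+ N :=
    AddMonoidHom.mk' (fun a => (show (Coh.structureModule X).presheaf.stalk x from a • one))
      fun a b => add_smul a b one
  let e₂ : X.presheaf.stalk x ≃ₗ[Y.presheaf.stalk (f x)] N :=
    LinearEquiv.ofBijective
      ({ toFun := l
         map_add' := map_add l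
         map_smul' := fun c a => mul_smul (φ f x c) a one } : X.presheaf.stalk x →ₗ[Y.presheaf.stalk (f x)] N)
      (Groth.L21.RR.bijective_smul_one x)
  rw [h1, ← e₂.length_eq]
  have hrY : Function.Bijective (Y.residue (f x)).hom :=
    ⟨(Y.residue (f x)).hom.injective, Y.residue_surjective (f x)⟩
  have hrX : Function.Bijective (X.residue x).hom :=
    ⟨(X.residue x).hom.injective, X.residue_surjective x⟩
  letI : Algebra (Y.residueField (f x)) (X.residueField x) := (f.residueFieldMap x).hom.toAlgebra
  have hfin : Module.finrank (Y.presheaf.stalk (f x)) (X.presheaf.stalk x) =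
      Module.finrank (Y.residueField (f x)) (X.residueField x) :=
    Algebra.finrank_eq_of_equiv_equiv (RingEquiv.ofBijective _ hrY) (RingEquiv.ofBijective _ hrX)
      (RingHom.ext fun a => congrArg (fun g => g.hom a) (Scheme.residue_residueFieldMap f x))
  rw [show (Scheme.Hom.residueDegree f x) = Module.finrank (Y.residueField (f x)) (X.residueField x) from rfl,
    ← hfin]
  by_cases hfd : Module.Finite (Y.presheaf.stalk (f x)) (X.presheaf.stalk x)
  · rw [Module.length_eq_finrank, ENat.toNat_natCast]
  · rw [Module.finrank_of_not_finite hfd, ENat.toNat_eq_zero]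
    refine Or.inr ?_
    by_contra hne
    obtain ⟨hn, -⟩ := isFiniteLength_iff_isNoetherian_isArtinian.1
      ((Module.length_ne_top_iff (R := Y.presheaf.stalk (f x)) (M := X.presheaf.stalk x)).1 hne)
    exact hfd inferInstance

end Groth.L22.CurveDeg
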