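import Groth.Agent.L21.RR.Point
import Groth.Agent.L21.RR.Mul
import Groth.Agent.L22.CurveDeg.Maps
import Groth.Agent.L08.Cube.Inverse

/-!
Non-special invertible modules with few sections on integral proper curves over an algebraically closed field.
-/

set_option autoImplicit false
set_option backward.isDefEq.respectTransparency false
set_option linter.style.haveILetI false
universe u

open CategoryTheory CategoryTheory.Limits AlgebraicGeometry TopologicalSpace Opposite

noncomputable section

namespace Groth.L22.CurveDeg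

open Groth.L16.CohLinear (hmap hmap_comp hmap_id overLin)
open Groth.L21.RR (st one oneSec h hk SuppClosed e0 mulS)

variable {X : Scheme.{u}} (k : Type u) [Field k] [X.Over (Spec (CommRingCat.of k))]
  [IsIntegral X] [IsProper (X ↘ Spec (CommRingCat.of k))]

/-- Over an algebraically closed field the constants are all global functions. -/
theorem h0_structure_eq_one [IsAlgClosed k] : h k 0 (Coh.structureModule X) = 1 := by
  classical
  let f := X ↘ Spec (CommRingCat.of k)
  let R := Γ(X, ⊤)
  letI : Algebra k R := ((f.appTop).hom.comp (Scheme.ΓSpecIso (CommRingCat.of k)).inv.hom).toAlgebra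
  haveI : Algebra.IsIntegral k R := ⟨by
    exact (RingHom.IsIntegral.trans _ _ (RingHom.isIntegral_of_surjective _
      (Scheme.ΓSpecIso (CommRingCat.of k)).symm.commRingCatIsoToRingEquiv.surjective)
      (isIntegral_appTop_of_universallyClosed f))⟩
  haveI : IsDomain R := inferInstanceAs (IsDomain Γ(X, ⊤))
  have hb : Function.Surjective (algebraMap k R) :=
    IsAlgClosed.algebraMap_bijective_of_isIntegral.2
  let hT : IsTerminal (⊤ : TopologicalSpace.Opens X) :=
    IsTerminal.ofUniqueHom (fun U => homOfLE le_top) (fun _ _ => rfl)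
  let F := Coh.toAb (Coh.structureModule X)
  let e : Coh.HH X (Coh.structureModule X) 0 ≃+ Coh.Γtop X := Sheaf.H.equiv₀ F hT
  have he : ∀ (c : k) x, e (c • x) = Coh.toGlobal (X ↘ Spec (CommRingCat.of k)) c * e x := fun c x => by
    show Sheaf.H.equiv₀ F hT (Sheaf.H.map (Coh.smulAb (Coh.structureModule X) _) 0 x) = _
    rw [← Sheaf.H.equiv₀_naturality]
    refine (Coh.smulAb_app (Coh.structureModule X) _ (Opposite.op ⊤) _).trans ?_
    show Coh.resTop X (Opposite.op ⊤) _ * _ = _
    congr 1
    simp [Coh.resTop]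
  refine finrank_eq_one_iff'.2 ⟨e.symm 1, fun h0 => ?_, fun w => ?_⟩
  · have : (1 : R) = 0 := by
      have h1 := congrArg e h0
      rw [AddEquiv.apply_symm_apply, map_zero] at h1
      exact h1
    exact one_ne_zero this
  · obtain ⟨c, hc⟩ := hb (e w)
    refine ⟨c, e.injective ?_⟩
    rw [he, AddEquiv.apply_symm_apply, mul_one]
    exact hc

theorem generic_not_isClosed (hd : topologicalKrullDim X = 1) : ¬ IsClosed ({genericPoint X} : Set X) := by
  intro hc
  have huniv : ∀ y : X, y = genericPoint X := fun y =>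
    hc.closure_eq.le (((genericPoint_spec X).specializes trivial).mem_closure)
  haveI : Subsingleton X := ⟨fun a b => (huniv a).trans (huniv b).symm⟩
  haveI : DiscreteTopology X := Subsingleton.discreteTopology
  have := topologicalKrullDim_zero_of_discreteTopology X
  rw [hd] at this
  exact absurd this (by decide)

/-- Every open containing the generic point has a closed point with principal maximal ideal. -/
theorem exists_regular_point_mem [PerfectField k] (hd : topologicalKrullDim X = 1)
    (V : X.Opens) (hV : genericPoint X ∈ V) :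
    ∃ z : X, z ∈ V ∧ IsClosed ({z} : Set X) ∧ z ≠ genericPoint X ∧
      (IsLocalRing.maximalIdeal (X.presheaf.stalk z)).IsPrincipal := by
  haveI := Groth.L21.RR.isNoetherian_of_proper (X := X) k
  have hmax : ∀ y : X, y ⤳ genericPoint X → y = genericPoint X := fun y hy =>
    (((genericPoint_spec X).specializes trivial).antisymm hy).eq.symm
  obtain ⟨U, hηU, hU⟩ :=
    Groth.L21.Nodal.exists_smooth_nhd_of_maximal (X ↘ Spec (CommRingCat.of k)) (genericPoint X) hmax
  haveI : JacobsonSpace X := LocallyOfFiniteType.jacobsonSpace (X ↘ Spec (CommRingCat.of k))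
  obtain ⟨z, hzUV, hz⟩ := nonempty_inter_closedPoints (Z := ((U ⊓ V : X.Opens) : Set X)) ⟨_, hηU, hV⟩
    (U ⊓ V : X.Opens).2.isLocallyClosed
  obtain ⟨hzU, hzV⟩ := hzUV
  have hzne : z ≠ genericPoint X := fun h => generic_not_isClosed hd (h ▸ hz)
  refine ⟨z, hzV, hz, hzne, ?_⟩
  haveI hreg : IsRegularLocalRing (U.toScheme.presheaf.stalk ⟨z, hzU⟩) :=
    Groth.L21.Smooth.regular_stalk (U.ι ≫ (X ↘ Spec (CommRingCat.of k))) _
  haveI : IsRegularLocalRing (X.presheaf.stalk z) :=
    IsRegularLocalRing.of_ringEquiv (U.stalkIso ⟨z, hzU⟩).commRingCatIsoToRingEquiv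
  exact Groth.L21.SmoothDescent.isPrincipal_of_dim_le_one
    ((Groth.L21.SmoothDescent.ringKrullDim_stalk_le z).trans hd.le)

variable {k}

/-- Degree is additive against a module with a nonzero section. -/
theorem deg_tensor_of_section (hd : topologicalKrullDim X ≤ 1) {N L : X.Modules} (hN : PicF.IsInvertible N)
    (hL : PicF.IsInvertible L) {s : Coh.structureModule X ⟶ L} (hs : s ≠ 0) :
    Curv2.deg k X (CohB1.tensorMod N L) 1 = Curv2.deg k X N 1 + Curv2.deg k X L 1 := by
  haveI := Groth.L21.RR.isNoetherian_of_proper (X := X) k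
  haveI := Groth.L21.RR.mono_of_ne_zero hL hs
  have hS : (ShortComplex.mk s (cokernel.π s) (cokernel.condition s)).ShortExact :=
    { exact := ShortComplex.exact_cokernel s }
  have hS' := Groth.L16.FrameIso.shortExact_tensor_left (Groth.L21.RR.isFlat_of_isInvertible hN) _ hS
  have hsupp := Groth.L21.RR.suppClosed_cokernel hd hL hs
  have hO := Groth.L16.CohClosedPush.isCoh_structure (X := X)
  have hNc := Groth.L16.ProperFinite.isCoh_of_isInvertible hN
  have hLc := Groth.L16.ProperFinite.isCoh_of_isInvertible hL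
  have hQ := (Groth.L16.CohKernel.isCoh_kernel_cokernel hO hLc s).2
  have htc : ∀ {M : X.Modules}, Coh.IsCoh M → Coh.IsCoh (CohB1.tensorMod N M) := fun {M} hM => by
    haveI : Coh.IsQCoh N := hNc.1
    haveI : Coh.IsQCoh M := hM.1
    exact ⟨Groth.L00.Tensor.isQCoh_tensorMod _ _, Groth.L00.Tensor.isFT_tensorMod _ _ hNc.2 hM.2⟩
  have key := Groth.L21.RR.euler_add k hd hS' (htc hO) (htc hLc) (htc hQ)
  have key' : Curv2.euler k X (CohB1.tensorMod N L) =
      Curv2.euler k X (CohB1.tensorMod N (Coh.structureModule X)) +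
        Curv2.euler k X (CohB1.tensorMod N (cokernel s)) := key
  rw [Groth.L21.RR.euler_congr k (Groth.L00.Tensor.tensorUnitRight N),
    Groth.L21.RR.euler_eq_h0_of_suppClosed k (Groth.L21.RR.suppClosed_tensor hN hsupp),
    Groth.L21.RR.h0_tensor k hN hsupp] at key'
  rw [Groth.L21.RR.deg_eq_h0_cokernel k hd hL hs, Curv2.deg, Curv2.deg, key']
  push_cast
  ring

/-- An effective module of degree one can be multiplied up to any degree. -/
theorem exists_deg_eq [IsAlgClosed k] (hd : topologicalKrullDim X = 1) (n : ℕ) :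
    ∃ L : X.Modules, PicF.IsInvertible L ∧ Curv2.deg k X L 1 = n := by
  obtain ⟨z, -, hz, hzne, hp⟩ := exists_regular_point_mem k hd ⊤ trivial
  obtain ⟨L, s, -, -, hL, hdeg, hs, -⟩ := Groth.L21.RR.exists_deg_one_section k hd.le hz hzne
    (Groth.L21.RR.isRat_of_isClosed k hz) hp
  induction n with
  | zero => exact ⟨_, Groth.L18.Ample.isInvertible_structureModule X, by rw [deg_structure]; rfl⟩
  | succ n ih =>
    obtain ⟨N, hN, hNd⟩ := ih
    refine ⟨CohB1.tensorMod N L, Groth.L18.GenLoc.isInvertible_tensor hN hL, ?_⟩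
    rw [deg_tensor_of_section hd.le hN hL hs, hNd, hdeg]
    push_cast
    ring

/-- Removing a general point from a non-special module drops the sections by one and keeps it
non-special. -/
theorem exists_drop [IsAlgClosed k] (hd : topologicalKrullDim X = 1) {L : X.Modules}
    (hL : PicF.IsInvertible L) {m : ℕ} (h0 : h k 0 L = m + 1) (h1 : Subsingleton (Coh.HH X L 1)) :
    ∃ L' : X.Modules, PicF.IsInvertible L' ∧ h k 0 L' = m ∧ Subsingleton (Coh.HH X L' 1) := by
  haveI := Groth.L21.RR.isNoetherian_of_proper (X := X) k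
  have hLc := Groth.L16.ProperFinite.isCoh_of_isInvertible hL
  haveI := Groth.L21.RR.finite_HH' k hLc 0
  haveI : Nontrivial (Coh.HH X L 0) := Module.nontrivial_of_finrank_pos (R := k) (by
    simp only [h] at h0; omega)
  obtain ⟨φ, hφ⟩ := Groth.L21.RR.exists_hom_ne_zero (L := L)
  have hη : genericPoint X ∈ CohB1.genLocus L φ := (Groth.L21.RR.mem_genLocus_iff hL φ _).2
    (Groth.L21.RR.surjective_st_of_not_closed hd.le hL hφ (generic_not_isClosed hd))
  obtain ⟨z, hzφ, hz, hzne, hp⟩ := exists_regular_point_mem k hd _ hη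
  obtain ⟨L₁, s, -, -, hL₁, hdeg, hs, hsy, -, -, -⟩ := Groth.L21.RR.exists_deg_one_section k hd.le hz hzne
    (Groth.L21.RR.isRat_of_isClosed k hz) hp
  obtain ⟨N₁, hN₁, ⟨ι⟩⟩ := Groth.L08.Cube.exists_inverse hL₁
  let L' := CohB1.tensorMod L N₁
  have hL' : PicF.IsInvertible L' := Groth.L18.GenLoc.isInvertible_tensor hL hN₁
  let ε : CohB1.tensorMod L' L₁ ≅ L :=
    Groth.L00.Tensor.tensorAssoc L N₁ L₁ ≪≫
      Groth.L00.Tensor.tensorIso (Iso.refl L) (Groth.L00.Tensor.tensorComm N₁ L₁ ≪≫ ι) ≪≫
      Groth.L00.Tensor.tensorUnitRight L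
  let ψ : L' ⟶ L := mulS L' s ≫ ε.hom
  have hεs : ∀ y : X, Function.Surjective (st ε.hom y) := fun y =>
    ((Groth.L21.Mod.isIso_iff_stalk_bijective ε.hom).1 inferInstance y).2
  have hψy : ∀ y, y ≠ z → Function.Surjective (st ψ y) := fun y hy v => by
    obtain ⟨w, rfl⟩ := hεs y v
    obtain ⟨w', rfl⟩ := Groth.L21.RR.surjective_st_mulS (N := L') hL' hL₁ (hsy y hy) w
    exact ⟨w', by simp only [ψ, st, Functor.map_comp]; rfl⟩
  have hψinj : ∀ y, Function.Injective (st ψ y) := fun y => by
    have hcomp : ∀ v, st ψ y v = st ε.hom y (st (mulS L' s) y v) := fun v => by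
      simp only [ψ, st, Functor.map_comp]; rfl
    intro a b hab
    rw [hcomp, hcomp] at hab
    exact Groth.L21.RR.injective_st_mulS hL' hL₁ hs y
      (((Groth.L21.Mod.isIso_iff_stalk_bijective ε.hom).1 inferInstance y).1 hab)
  haveI : Mono ψ := (Groth.L21.Mod.mono_iff_stalk_injective ψ).2 hψinj
  have hdL : Curv2.deg k X L 1 = Curv2.deg k X L' 1 + 1 := by
    rw [← Groth.L21.RR.deg_congr k ε, deg_tensor_of_section hd.le hL' hL₁ hs, hdeg]
  have hL'c := Groth.L16.ProperFinite.isCoh_of_isInvertible hL'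
  haveI := Groth.L21.RR.finite_HH' k hL'c 0
  haveI := Groth.L21.RR.finite_HH' k hL'c 1
  have hinj : Function.Injective (hk k ψ 0) := Groth.L21.RR.injective_hmap_zero ψ
  have hns : ¬ Function.Surjective (hk k ψ 0) := by
    intro hsur
    obtain ⟨x, hx⟩ := hsur ((e0 L).symm (φ.app ⊤ (oneSec X)))
    obtain ⟨φ', hφ'⟩ := Groth.L21.RR.exists_hom_of_hh0 x
    have hfac : φ' ≫ ψ = φ := Groth.L21.RR.hom_ext_one (by
      show ψ.app ⊤ (φ'.app ⊤ (oneSec X)) = _
      rw [hφ', ← Groth.L21.RR.e0_hmap]
      change e0 L (hk k ψ 0 x) = _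
      rw [hx, AddEquiv.apply_symm_apply])
    have hψz : ∀ y, Function.Surjective (st ψ y) := fun y => by
      by_cases hy : y = z
      · subst hy
        intro v
        obtain ⟨w, rfl⟩ := (Groth.L21.RR.mem_genLocus_iff hL φ y).1 hzφ v
        exact ⟨st φ' y w, by rw [← hfac]; simp only [st, Functor.map_comp]; rfl⟩
      · exact hψy y hy
    haveI : IsIso ψ := (Groth.L21.Mod.isIso_iff_stalk_bijective ψ).2 fun y => ⟨hψinj y, hψz y⟩
    have := Groth.L21.RR.deg_congr k (asIso ψ) 1
    omega
  have hlt : h k 0 L' < h k 0 L := by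
    refine lt_of_le_of_ne (LinearMap.finrank_le_finrank_of_injective hinj) fun he => hns ?_
    exact (LinearMap.injective_iff_surjective_of_finrank_eq_finrank he).1 hinj
  have heq : Curv2.euler k X L = Curv2.euler k X L' + 1 := by
    have := hdL
    simp only [Curv2.deg] at this
    push_cast at this
    linarith
  rw [Groth.L21.RR.euler_eq k hd.le, Groth.L21.RR.euler_eq k hd.le,
    Groth.L21.RR.h_eq_zero_of_subsingleton k h1] at heq
  have hz1 : h k 1 L' = 0 := by omega
  exact ⟨L', hL', by omega, Module.finrank_zero_iff.1 hz1⟩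

/-- Non-special invertible modules with any small number of sections. -/
theorem exists_nonspecial [IsAlgClosed k] (hd : topologicalKrullDim X = 1) (m : ℕ) :
    ∃ L : X.Modules, PicF.IsInvertible L ∧ h k 0 L = m ∧ Subsingleton (Coh.HH X L 1) := by
  have h0 := h0_structure_eq_one (X := X) k
  obtain ⟨L, hL, hdeg⟩ := exists_deg_eq (k := k) hd (2 * h k 1 (Coh.structureModule X) + m + 1)
  have h1 := Groth.L21.RR.subsingleton_h1_of_deg_gt k hd.le h0 hL (by rw [hdeg]; push_cast; omega)
  obtain ⟨d, hd'⟩ : ∃ d, h k 0 L = m + d := by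
    refine ⟨h k 0 L - m, ?_⟩
    rw [Curv2.deg, Groth.L21.RR.euler_eq k hd.le, Groth.L21.RR.euler_eq k hd.le, h0,
      Groth.L21.RR.h_eq_zero_of_subsingleton k h1] at hdeg
    push_cast at hdeg
    omega
  clear hdeg
  induction d generalizing L with
  | zero => exact ⟨L, hL, hd', h1⟩
  | succ d ih =>
    obtain ⟨L', hL', h0', h1'⟩ := exists_drop (k := k) hd hL (m := m + d) hd' h1
    exact ih L' hL' h1' h0'

end Groth.L22.CurveDeg
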