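import Groth.Agent.L22.CurveDeg.Devissage
import Groth.Agent.L16.NegPow.Gen
import Groth.Agent.L21.RR.Coh

/-!
The degree of a tensor product of locally free modules on a curve.
-/

set_option autoImplicit false
set_option backward.isDefEq.respectTransparency false
set_option linter.style.haveILetI false
universe u

open CategoryTheory CategoryTheory.Limits AlgebraicGeometry TopologicalSpace Opposite Groth.L16.CohSupport

noncomputable section

namespace Groth.L22.CurveDeg

variable {X : Scheme.{u}} (k : Type u) [Field k] [X.Over (Spec (CommRingCat.of k))]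
  [IsProper (X ↘ Spec (CommRingCat.of k))]

theorem deg_tensor_locFree (hd : topologicalKrullDim X ≤ 1) {n m : ℕ} {E V : X.Modules}
    (hE : FlatMod.IsFinLocFreeOfRank n E) (hV : FlatMod.IsFinLocFreeOfRank m V) :
    Curv2.deg k X (CohB1.tensorMod E V) (n * m) = n * Curv2.deg k X V m + m * Curv2.deg k X E n := by
  classical
  haveI := Groth.L21.RR.isNoetherian_of_proper (X := X) k
  let S := (finite_nonclosed hd).toFinset
  have hS : ∀ x, x ∈ S ↔ ¬ IsClosed ({x} : Set X) := fun x => Set.Finite.mem_toFinset _
  have hG : ∀ y : X, ∃ G : X.Modules, Coh.IsCoh G ∧ CohB1.support G ⊆ closure {y} ∧ len y G = 1 := fun y => by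
    obtain ⟨Z, i, hi, hZ, hgen, hrange⟩ := Groth.L16.CohClosedPush.exists_integral y
    haveI : IsLocallyNoetherian Z := LocallyOfFiniteType.isLocallyNoetherian i
    exact ⟨_, Groth.L16.CohClosedPush.isCoh_push i Groth.L16.CohClosedPush.isCoh_structure,
      (Groth.L16.CohClosedPush.support_push_subset i _).trans hrange.le,
      hgen ▸ Groth.L16.CohClosedPush.len_push_structure i⟩
  choose G hG using hG
  have hlen : ∀ y : X, len y V = (m : ℕ∞) * len y (Coh.structureModule X) := fun y => by
    obtain ⟨e⟩ := nonempty_stalk_equiv hV y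
    let e₁ : X.presheaf.stalk y ≃ₗ[X.presheaf.stalk y] (Coh.structureModule X).presheaf.stalk y :=
      LinearEquiv.ofBijective (LinearMap.toSpanSingleton _ _ (Groth.L21.RR.one X y))
        (Groth.L21.RR.bijective_smul_one y)
    rw [len, len, ← e.length_eq, ← e₁.length_eq, Module.length_pi]
    simp
  have key : phi k E n V = (m : ℤ) * phi k E n (Coh.structureModule X) := by
    rw [phi_eq_sum k hd hE S hS G (fun y _ => hG y) (Groth.L16.NegPow.isCoh_of_isFinLocFree (isFinLocFree_of_rank hV)),
      phi_eq_sum k hd hE S hS G (fun y _ => hG y) Groth.L16.CohClosedPush.isCoh_structure, Finset.mul_sum]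
    refine Finset.sum_congr rfl fun y _ => ?_
    rw [hlen y, ENat.toNat_mul, ENat.toNat_coe, Nat.cast_mul, mul_assoc]
  rw [phi_structure, phi] at key
  simp only [Curv2.deg] at key ⊢
  push_cast
  linear_combination key

end Groth.L22.CurveDeg
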